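import Groth.Agent.CanonEval.Thick
import Groth.Agent.FTDescent.FP
import Groth.Agent.H23.GrassFlag
import Groth.Agent.ConsPropLib.FibreLocFreeRank

/-!
Pushforward of an invertible module that comes from the base.
-/

set_option autoImplicit false
set_option linter.style.haveILetI false
set_option backward.isDefEq.respectTransparency false
set_option backward.isDefEq.respectTransparency.types false

universe u

open CategoryTheory CategoryTheory.Limits AlgebraicGeometry TopologicalSpace Opposite

namespace Groth.Agent.CanonEval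

open Groth.Agent

/-- Pullbacks of finite locally free modules are finite locally free. -/
theorem isFinLocFree_pullback {X Y : Scheme.{u}} (f : X ⟶ Y) {M : Y.Modules} (hM : FlatMod.IsFinLocFree M) :
    FlatMod.IsFinLocFree ((Scheme.Modules.pullback f).obj M) := fun x => by
  obtain ⟨U, r, hx, ⟨e⟩⟩ := hM (f.base x)
  exact ⟨f ⁻¹ᵁ U, r, hx, ⟨((H23.PullPush.pullRestrictIso f U).app M).symm ≪≫
    (Scheme.Modules.pullback (f ∣_ U)).mapIso e ≪≫ KFlatLib.pullFreeIso _ r⟩⟩

variable {X S : Scheme.{u}} (f : X ⟶ S) [IsProper f] [Flat f] [Surjective f] [IsLocallyNoetherian S] {L : X.Modules}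

/-- If the evaluation map of an invertible module is an isomorphism then its pushforward is invertible. -/
theorem rankOne_push (hL : PicF.IsInvertible L)
    (hev : IsIso ((Scheme.Modules.pullbackPushforwardAdjunction f).counit.app L)) :
    FlatMod.IsFinLocFreeOfRank 1 ((Scheme.Modules.pushforward f).obj L) := by
  haveI := hev
  haveI : IsLocallyNoetherian X := LocallyOfFiniteType.isLocallyNoetherian f
  let e := asIso ((Scheme.Modules.pullbackPushforwardAdjunction f).counit.app L)
  have hL1 := InvEnd.isFinLocFreeOfRank_one hL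
  have hLf : FlatMod.IsFinLocFree L := fun x => let ⟨U, hx, h⟩ := hL1 x; ⟨U, 1, hx, h⟩
  have hM : Coh.IsQCoh ((Scheme.Modules.pushforward f).obj L) :=
    QCoh.isQCoh_pushforward f (QCoh.isQCoh_of_isFinLocFree hLf)
  have hlf := FTDescent.isFinLocFree_of_pullback f hM (H23.PullPush.isFinLocFree_of_iso e.symm hLf)
  refine ConsPropLib.isFinLocFreeOfRank_iff.2 ⟨hlf, fun y => ?_⟩
  obtain ⟨x, rfl⟩ := f.surjective y
  have h1' : FlatMod.IsFinLocFreeOfRank 1 ((Scheme.Modules.pullback f).obj ((Scheme.Modules.pushforward f).obj L)) :=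
    fun z => let ⟨V, hz, ⟨ε⟩⟩ := hL1 z; ⟨V, hz, ⟨(Scheme.Modules.restrictFunctor V.ι).mapIso e ≪≫ ε⟩⟩
  have h2 := (ConsPropLib.isFinLocFreeOfRank_iff.1 h1').2 x
  haveI : Module.Free (S.presheaf.stalk (f x)) (((Scheme.Modules.pushforward f).obj L).presheaf.stalk (f x)) :=
    QCoh.free_stalk_of_isFinLocFree hlf (f x)
  refine Eq.trans ?_ h2
  letI := (f.stalkMap x).hom.toAlgebra
  exact (LinearEquiv.finrank_eq
    ((KFlatLib.stalkPullbackIso f x).app ((Scheme.Modules.pushforward f).obj L)).toLinearEquiv ▸
      (Module.finrank_baseChange (R := X.presheaf.stalk x) (S := S.presheaf.stalk (f x))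
        (M' := ((Scheme.Modules.pushforward f).obj L).presheaf.stalk (f x))).symm :)

omit [Surjective f] in
/-- If moreover the functions on the fibres are constant, the pushforward commutes with base change. -/
theorem isIso_baseChange (hc : H23.RigidApply.ConstFibres f)
    (hM : FlatMod.IsFinLocFree ((Scheme.Modules.pushforward f).obj L))
    {S' : Scheme.{u}} (g : S' ⟶ S)
    (hev : IsIso ((Scheme.Modules.pullbackPushforwardAdjunction f).counit.app L)) :
    IsIso (((Scheme.Modules.pullbackPushforwardAdjunction (pullback.snd f g)).homEquiv _ _)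
      ((Scheme.Modules.pullbackComp (pullback.snd f g) g).hom.app _ ≫
        (Scheme.Modules.pullbackCongr (pullback.condition (f := f) (g := g))).inv.app _ ≫
        (Scheme.Modules.pullbackComp (pullback.fst f g) f).inv.app _ ≫
        (Scheme.Modules.pullback (pullback.fst f g)).map
          ((Scheme.Modules.pullbackPushforwardAdjunction f).counit.app L))) := by
  haveI := hev
  haveI := H23.PullPush.isIso_unit_of_isFinLocFree (pullback.snd f g)
    (fun W => SeesawX.bijective_app_baseChange f hc (IsPullback.of_hasPullback f g) W)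
    ((Scheme.Modules.pullback g).obj ((Scheme.Modules.pushforward f).obj L)) (isFinLocFree_pullback g hM)
  rw [Adjunction.homEquiv_unit]
  infer_instance

end Groth.Agent.CanonEval
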