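import Groth.Agent.SeesawX.Reduced
import Groth.Agent.SeesawX.Unit
import Groth.Agent.AmpleVan.LiftFibre
import Groth.Agent.Lib.SmoothTop
import Groth.Agent.H23.RigidGamma
import Groth.Agent.FlatPt5.Stage
import Groth.Agent.MeroDepth.Supp
import Groth.Agent.H28.PnFlat

/-!
Invertible modules trivial on fibres without first cohomology, over any locally Noetherian base.
-/

set_option autoImplicit false
set_option linter.style.haveILetI false
set_option linter.unusedSectionVars false
set_option backward.isDefEq.respectTransparency false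
set_option backward.isDefEq.respectTransparency.types false
set_option maxHeartbeats 1000000

universe u

open CategoryTheory CategoryTheory.Limits AlgebraicGeometry TopologicalSpace Opposite

noncomputable section

namespace Groth.Agent.CanonEval

open Groth.Agent H23 H23.SeesawGlobal H23.TrivBasic

/-- A locally projective morphism is proper. -/
theorem isProper_of_isLocallyProjective {X S : Scheme.{u}} (f : X ⟶ S)
    (h : RedSub.IsLocallyProjective (Over.mk f)) : IsProper f := by
  choose V hV n e he hw using h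
  refine IsZariskiLocalAtTarget.of_iSup_eq_top (P := @IsProper) V
    (top_le_iff.1 fun s _ => Opens.mem_iSup.2 ⟨s, hV s⟩) fun s => ?_
  haveI := he s
  haveI := H28.PnFlat.isProper_pr (n s) (V s : Scheme.{u})
  have hp : IsProper (pullback.snd f (V s).ι) := by
    have h1 : IsProper (CohB1.ProjSpaceOver.toBase (n s) (V s : Scheme.{u})) :=
      H28.PnFlat.isProper_pr (n s) (V s : Scheme.{u})
    have h2 : IsProper (e s ≫ CohB1.ProjSpaceOver.toBase (n s) (V s : Scheme.{u})) :=
      MorphismProperty.comp_mem @IsProper _ _ inferInstance h1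
    rw [hw s] at h2
    exact h2
  show IsProper (f ∣_ V s)
  rw [morphismRestrict]
  haveI := hp
  infer_instance

section Local

variable {A : Type u} [CommRing A] [IsNoetherianRing A] [IsLocalRing A] {X Z : Scheme.{u}}
  [X.Over (Spec (CommRingCat.of A))] [IsProper (X ↘ Spec (CommRingCat.of A))] [Flat (X ↘ Spec (CommRingCat.of A))]

/-- Over a local ring triviality lifts from the closed fibre. -/
theorem triv_of_closedFibre {L : X.Modules} (hL : PicF.IsInvertible L) (i : Z ⟶ X) [IsClosedImmersion i]
    (q : Z ⟶ Spec (CommRingCat.of (A ⧸ IsLocalRing.maximalIdeal A)))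
    (sq : IsPullback i q (X ↘ Spec (CommRingCat.of A))
      (Spec.map (CommRingCat.ofHom (Ideal.Quotient.mk (IsLocalRing.maximalIdeal A)))))
    (hT : Triv ((Scheme.Modules.pullback i).obj L))
    (hH : Subsingleton (Coh.HH Z (Coh.structureModule Z) 1)) : Triv L := by
  obtain ⟨τ⟩ := hT
  have hO1 := InvEnd.isFinLocFreeOfRank_one (InvX.isInvertible_structureModule (X := X))
  have hL1 := InvEnd.isFinLocFreeOfRank_one hL
  let π := X ↘ Spec (CommRingCat.of A)
  let uO := SeesawX.unitIso i
  have h1 : Subsingleton (Coh.HH Z ((SheafHomX.hom ((Scheme.Modules.pullback i).obj (Coh.structureModule X))).obj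
      ((Scheme.Modules.pullback i).obj L)) 1) := by
    let c : (SheafHomX.hom (Coh.structureModule Z)).obj ((Scheme.Modules.pullback i).obj L) ≅
        (SheafHomX.hom ((Scheme.Modules.pullback i).obj (Coh.structureModule X))).obj ((Scheme.Modules.pullback i).obj L) :=
      { hom := (SheafHomX.homMap uO.hom).app _
        inv := (SheafHomX.homMap uO.inv).app _
        hom_inv_id := by rw [← SheafHomX.homMap_comp, Iso.inv_hom_id, SheafHomX.homMap_id]
        inv_hom_id := by rw [← SheafHomX.homMap_comp, Iso.hom_inv_id, SheafHomX.homMap_id] }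
    exact AmpleVan.subsingleton_of_iso (τ.symm ≪≫ ((SheafHomX.unitIso Z).app _).symm ≪≫ c) 1 hH
  obtain ⟨v, hv⟩ := AmpleVan.exists_lift_modPow A (Coh.structureModule X) L
    (fun x => (hO1 x).elim fun U h => ⟨U, 1, h⟩) (fun x => (hL1 x).elim fun U h => ⟨U, 1, h⟩) sq h1
    (uO.hom ≫ τ.inv)
  let s : Γ(L, ⊤) := v.app ⊤ (show Γ(Coh.structureModule X, ⊤) from (1 : Γ(X, ⊤)))
  have hfr : InvX.IsFrame (show Γ((Scheme.Modules.pullback i).obj L, ⊤) from InvX.pullElt i s) := by
    have e1 := FlatPt5.pullSec_map i v (le_refl (i ⁻¹ᵁ (⊤ : X.Opens)))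
      (show Γ(Coh.structureModule X, ⊤) from (1 : Γ(X, ⊤)))
    rw [hv] at e1
    have e2 := SeesawX.unitIso_pullSec_one i (⊤ : X.Opens) (le_refl (i ⁻¹ᵁ (⊤ : X.Opens)))
    have e3 : QCoh.pullSec i L (le_refl (i ⁻¹ᵁ (⊤ : X.Opens))) s =
        τ.inv.app (i ⁻¹ᵁ ⊤) (show Γ(Coh.structureModule Z, i ⁻¹ᵁ ⊤) from (1 : Γ(Z, i ⁻¹ᵁ ⊤))) :=
      e1.symm.trans (congrArg (τ.inv.app (i ⁻¹ᵁ ⊤)) e2)
    have e4 : InvX.pullElt i s = QCoh.pullSec i L (le_refl (i ⁻¹ᵁ (⊤ : X.Opens))) s := (QCoh.map_id' _ _).symm
    rw [e4, e3]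
    exact InvX.IsFrame.map_iso τ.symm (InvX.isFrame_one (⊤ : Z.Opens))
  have htop : locus s = ⊤ := by
    let C : Set ↥(Spec (CommRingCat.of A)) := π '' ((locus s : Set X)ᶜ)
    have hC : IsClosed C := (Scheme.Hom.isClosedMap π) _ (locus s).isOpen.isClosed_compl
    have hx : IsLocalRing.closedPoint A ∈ (⟨Cᶜ, hC.isOpen_compl⟩ : (Spec (CommRingCat.of A)).Opens) := by
      rintro ⟨z, hz, hzx⟩
      letI := Ideal.Quotient.field (IsLocalRing.maximalIdeal A)
      haveI : IsLocalHom (CommRingCat.Hom.hom (CommRingCat.ofHom (Ideal.Quotient.mk (IsLocalRing.maximalIdeal A)))) :=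
        IsLocalHom.of_surjective _ Ideal.Quotient.mk_surjective
      have hpt : Spec.map (CommRingCat.ofHom (Ideal.Quotient.mk (IsLocalRing.maximalIdeal A)))
          (IsLocalRing.closedPoint (A ⧸ IsLocalRing.maximalIdeal A)) = IsLocalRing.closedPoint A :=
        IsLocalRing.comap_closedPoint _
      obtain ⟨z', hz', -⟩ := Scheme.Pullback.exists_preimage_pullback (f := π)
        (g := Spec.map (CommRingCat.ofHom (Ideal.Quotient.mk (IsLocalRing.maximalIdeal A))))
        z (IsLocalRing.closedPoint _) (hzx.trans hpt.symm)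
      refine hz ?_
      have hz2 : i (sq.isoPullback.inv z') = z := by
        rw [← Scheme.Hom.comp_apply, IsPullback.isoPullback_inv_fst]
        exact hz'
      exact hz2 ▸ mem_locus_of_pullElt hL i s hfr _
    refine top_le_iff.1 fun z _ => ?_
    by_contra hz
    have h' : π z ∈ (⟨Cᶜ, hC.isOpen_compl⟩ : (Spec (CommRingCat.of A)).Opens) := by
      rw [MeroDepth.eq_top_of_closedPoint_mem hx]; trivial
    exact h' ⟨z, hz, rfl⟩
  exact triv_of_frame (locus_eq_top_iff.1 htop)

end Local

variable {X S : Scheme.{u}} (f : X ⟶ S) [IsProper f] [Flat f] [IsLocallyNoetherian S] {L : X.Modules}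
  (hL : PicF.IsInvertible L) (hc : RigidApply.ConstFibres f)
  (hT : ∀ y : S, Triv ((Scheme.Modules.pullback (f.fiberι y)).obj L))
  (hH1 : ∀ y : S, Subsingleton (Coh.HH (f.fiber y) (Coh.structureModule (f.fiber y)) 1))

include hL hT hH1 in
/-- The module is trivial over the local rings of the base. -/
theorem triv_stalk (y : S) : Triv ((Scheme.Modules.pullback (pullback.fst f (S.fromSpecStalk y))).obj L) := by
  let A : Type u := S.presheaf.stalk y
  let X₁ : Scheme.{u} := pullback f (S.fromSpecStalk y)
  letI : X₁.Over (Spec (CommRingCat.of A)) := ⟨pullback.snd f (S.fromSpecStalk y)⟩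
  haveI : IsProper (X₁ ↘ Spec (CommRingCat.of A)) :=
    MorphismProperty.pullback_snd (P := @IsProper) f (S.fromSpecStalk y) inferInstance
  haveI : Flat (X₁ ↘ Spec (CommRingCat.of A)) :=
    MorphismProperty.pullback_snd (P := @Flat) f (S.fromSpecStalk y) inferInstance
  haveI : IsNoetherianRing A := inferInstanceAs (IsNoetherianRing (S.presheaf.stalk y))
  let r : Spec (S.residueField y) ⟶ Spec (CommRingCat.of A) := Spec.map (S.residue y)
  have hr : r ≫ S.fromSpecStalk y = S.fromSpecResidueField y := rfl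
  let i : f.fiber y ⟶ X₁ := pullback.lift (f.fiberι y) (f.fiberToSpecResidueField y ≫ r) (by
    rw [Category.assoc, hr]; exact f.fiber_fac y)
  have sq : IsPullback i (f.fiberToSpecResidueField y) (X₁ ↘ Spec (CommRingCat.of A)) r := by
    refine IsPullback.of_right ?_ (pullback.lift_snd _ _ _) (IsPullback.of_hasPullback f (S.fromSpecStalk y))
    rw [pullback.lift_fst, hr]
    exact IsPullback.of_hasPullback f (S.fromSpecResidueField y)
  haveI : IsClosedImmersion r := IsClosedImmersion.spec_of_surjective _ IsLocalRing.residue_surjective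
  haveI : IsClosedImmersion i := MorphismProperty.of_isPullback sq.flip inferInstance
  exact triv_of_closedFibre (A := A) (PicClLib.isInvertible_pullback _ hL) i (f.fiberToSpecResidueField y) sq
    ((triv_comp_iff _ _).2 (triv_of_factor (𝟙 _) (by rw [Category.id_comp]; exact (pullback.lift_fst _ _ _).symm) (hT y)))
    (hH1 y)

include hL hc hT hH1 in
/-- The module comes from the base. -/
theorem isIso_counit : IsIso ((Scheme.Modules.pullbackPushforwardAdjunction f).counit.app L) := by
  refine (S16759.of_local f (fun W => SeesawX.bijective_app_baseChange f hc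
    (IsPullback.of_horiz_isIso ⟨(Category.id_comp f).trans (Category.comp_id f).symm⟩ : IsPullback (𝟙 X) f f (𝟙 S)) W)
    L fun y => ?_).2
  obtain ⟨A, _, _, g, _, x, rfl⟩ := exists_chart y
  refine exists_frame_of_thick f hL g x (S16759.fieldH0 f hc _)
    ((fieldTriv_iff_residueField _).2 (hT _)) fun n => ⟨?_, ?_⟩
  · let B := Localization.AtPrime x.asIdeal
    let k : Spec (CommRingCat.of B) ⟶ S := Seesaw.specAlg A B ≫ g
    have hk : k (IsLocalRing.closedPoint B) = g x := by
      rw [Scheme.Hom.comp_apply]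
      exact congrArg g (PrimeSpectrum.ext (IsLocalization.AtPrime.comap_maximalIdeal B x.asIdeal))
    refine triv_pullback_of_factor
      (Spec.map (CommRingCat.ofHom (Ideal.Quotient.mk (IsLocalRing.maximalIdeal B ^ n))) ≫
        Spec.map (Scheme.stalkClosedPointTo k) ≫ Spec.map (S.presheaf.stalkSpecializes (specializes_of_eq hk))) ?_
      (triv_stalk f hL hT hH1 (g x))
    rw [Category.assoc, Category.assoc, Scheme.SpecMap_stalkSpecializes_fromSpecStalk,
      Scheme.Spec_stalkClosedPointTo_fromSpecStalk]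
    show Spec.map _ ≫ Spec.map _ ≫ g = Spec.map _ ≫ g
    rw [← Category.assoc, ← Spec.map_comp]
    rfl
  · exact (SeesawX.bijective_app_baseChange f hc (IsPullback.of_hasPullback f _) ⊤).1

end Groth.Agent.CanonEval
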